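import Groth.Agent.ProperBC13.Bridge
import Groth.Agent.EtFound.GabberH0
import Groth.Agent.EtFound.ConstStalk
import Groth.Agent.S7180
import Mathlib.AlgebraicGeometry.Morphisms.Preimmersion

/-!
# Constant sheaves on normal schemes and direct images from dense pieces
-/

set_option autoImplicit false
set_option linter.style.haveILetI false

universe u

open CategoryTheory CategoryTheory.Limits AlgebraicGeometry Opposite TopologicalSpace Topology

namespace Groth.Agent.NormalPush13

set_option backward.isDefEq.respectTransparency.types false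

open AbLocEq

/-- A cover by disjoint open pieces of a dense enough part is locally a single piece. -/
theorem exists_nhds_piece {P V : Type u} {M : Type*} [TopologicalSpace P] [TopologicalSpace V] [SpectralSpace P]
    [SpectralSpace V] (p : P → V) (hp : IsSpectralMap p) (hi : IsInducing p) (v η : V)
    (hη : η ∈ Set.range p) (hgen : ∀ y, y ⤳ v → η ⤳ y) (W : M → Set P) (hWo : ∀ m, IsOpen (W m))
    (hWd : ∀ m n z, z ∈ W m → z ∈ W n → m = n) (hWc : ∀ z, ∃ m, z ∈ W m) :
    ∃ (m : M) (O : Set V), IsOpen O ∧ v ∈ O ∧ p ⁻¹' O ⊆ W m := by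
  obtain ⟨z₀, hz₀⟩ := hη
  obtain ⟨m, hm⟩ := hWc z₀
  have hB : IsClosed (W m) := by
    rw [← isOpen_compl_iff, isOpen_iff_forall_mem_open]
    intro z hz
    obtain ⟨n, hn⟩ := hWc z
    exact ⟨W n, fun z' hz' hz'm => hz (hWd n m z' hz' hz'm ▸ hn), hWo n, hn⟩
  refine ⟨m, (closure (p '' (W m)ᶜ))ᶜ, isClosed_closure.isOpen_compl, fun hv => ?_, fun z hz => ?_⟩
  · obtain ⟨w, hw, hwv⟩ := GabberH0.exists_specializes_map p hp _
      (GabberH0.isClosed_constructible_of_isClosed (hWo m).isClosed_compl) v hv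
    refine hw ((hi.specializes_iff.1 ?_).mem_closed hB hm)
    rw [hz₀]
    exact hgen _ hwv
  · by_contra h
    exact hz (subset_closure ⟨z, h, rfl⟩)

/-- A point of a scheme with domain local ring has a generalisation below all its generalisations. -/
theorem exists_generic {V : Scheme.{u}} (v : V) [IsDomain (V.presheaf.stalk v)] :
    ∃ η : V, η ⤳ v ∧ ∀ y, y ⤳ v → η ⤳ y := by
  let b : ↥(Spec (V.presheaf.stalk v)) := ⟨⊥, Ideal.isPrime_bot⟩
  refine ⟨(V.fromSpecStalk v) b, ?_, fun y hy => ?_⟩
  · have h : (V.fromSpecStalk v) b ∈ Set.range (V.fromSpecStalk v) := ⟨b, rfl⟩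
    rwa [Scheme.range_fromSpecStalk] at h
  · obtain ⟨q, rfl⟩ : y ∈ Set.range (V.fromSpecStalk v) := by rw [Scheme.range_fromSpecStalk]; exact hy
    exact ((PrimeSpectrum.le_iff_specializes b q).1 bot_le).map (V.fromSpecStalk v).continuous

variable {X Y : Scheme.{u}} (g : Y ⟶ X) (M : Type) [AddCommGroup M]

/-- A constant section. -/
noncomputable def csec (U : X.Etale) (m : ULift.{u + 1} M) : (EtCoh.const X M).obj.obj (op U) :=
  (CategoryTheory.toSheafify X.smallEtaleTopology
    ((Functor.const X.Etaleᵒᵖ).obj (AddCommGrpCat.of (ULift.{u + 1} M)))).app (op U) m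

variable {M}

theorem csec_map {U W : X.Etale} (k : W ⟶ U) (m : ULift.{u + 1} M) :
    (EtCoh.const X M).obj.map k.op (csec M U m) = csec M W m :=
  (NatTrans.naturality_apply (CategoryTheory.toSheafify X.smallEtaleTopology
    ((Functor.const X.Etaleᵒᵖ).obj (AddCommGrpCat.of (ULift.{u + 1} M)))) k.op m).symm

theorem exists_aEq_csec {U : X.Etale} (a : (EtCoh.const X M).obj.obj (op U)) (v : U.left) :
    ∃ m, AEq (EtCoh.const X M).obj a (csec M U m) v := by
  obtain ⟨Ω, _, _, ξ, t, ht⟩ := EtFound.exists_point_through U v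
  obtain ⟨m, hm⟩ := (EtFound.toSheafify_const_germ_bijective ξ AddCommGrpCat.{u + 1} _ U t).2
    ((Scheme.pointSmallEtale ξ).toPresheafFiber U t (EtCoh.const X M).obj a)
  exact ⟨m, aEq_of_germ ξ t hm.symm _ (ht _)⟩

theorem eq_of_aEq_csec {U : X.Etale} {m n : ULift.{u + 1} M} {v : U.left}
    (h : AEq (EtCoh.const X M).obj (csec M U m) (csec M U n) v) : m = n := by
  obtain ⟨Ω, _, _, ξ, t, ht⟩ := EtFound.exists_point_through U v
  exact (EtFound.toSheafify_const_germ_bijective ξ AddCommGrpCat.{u + 1} _ U t).1 (germ_eq h t (ht _))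

theorem exists_aEq_cup (V : X.Etale) (s : ((EtCoh.pull g).obj (EtCoh.const X M)).obj.obj (op ((EtCoh.bc g).obj V)))
    (z : ((EtCoh.bc g).obj V).left) :
    ∃ m, AEq ((EtCoh.pull g).obj (EtCoh.const X M)).obj s (up g _ V (csec M V m)) z := by
  obtain ⟨U, a, Z, c, k, z₀, hz₀, he⟩ := ProperBC13.exists_up_eq_ab g _ ((EtCoh.bc g).obj V) s z
  obtain ⟨m, hm⟩ := exists_aEq_csec a (pr g U (c.left z₀))
  haveI : Etale U.hom := U.prop
  haveI : Etale V.hom := V.prop
  let W : X.Etale := MorphismProperty.Over.mk ⊤ (pullback.fst U.hom V.hom ≫ U.hom) (by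
    haveI : Etale (pullback.fst U.hom V.hom) := MorphismProperty.pullback_fst _ _ inferInstance
    exact inferInstanceAs (Etale (pullback.fst U.hom V.hom ≫ U.hom)))
  let m₁ : W ⟶ U := MorphismProperty.Over.homMk (pullback.fst U.hom V.hom) rfl
  let m₂ : W ⟶ V := MorphismProperty.Over.homMk (pullback.snd U.hom V.hom) pullback.condition.symm
  obtain ⟨c', hc₁, hc₂⟩ := HenselConn.exists_pair_hom g m₁ m₂ c k (IsPullback.of_hasPullback U.hom V.hom)
  refine ⟨m, ?_⟩
  have h := (aEq_up g _ hm).map c (z := z₀)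
  rw [he] at h
  have e₁ : ((EtCoh.pull g).obj (EtCoh.const X M)).obj.map c.op (up g _ U (csec M U m)) =
      ((EtCoh.pull g).obj (EtCoh.const X M)).obj.map k.op (up g _ V (csec M V m)) := by
    rw [← hc₁, ← mapP, ← up_map, csec_map, ← hc₂, ← mapP, ← up_map, csec_map]
  rw [e₁] at h
  exact hz₀ ▸ h.of_map k

theorem eq_of_aEq_cup {V : X.Etale} {m n : ULift.{u + 1} M} {z : ((EtCoh.bc g).obj V).left}
    (h : AEq ((EtCoh.pull g).obj (EtCoh.const X M)).obj (up g _ V (csec M V m)) (up g _ V (csec M V n)) z) : m = n :=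
  eq_of_aEq_csec (aEq_of_up g _ h)

variable [IsPreimmersion g] [QuasiCompact g] (hX : Pi1.IsNormalScheme X)
  (hmax : ∀ (V : X.Etale), IsAffine V.left → ∀ η : V.left, (∀ y, y ⤳ η → η ⤳ y) → η ∈ Set.range (pr g V))

include hX hmax

omit [IsPreimmersion g] [QuasiCompact g] in
theorem exists_generic_mem (V : X.Etale) [IsAffine V.left] (v : V.left) :
    ∃ η ∈ Set.range (pr g V), η ⤳ v ∧ ∀ y, y ⤳ v → η ⤳ y := by
  haveI : Etale V.hom := V.prop
  haveI : IsDomain (V.left.presheaf.stalk v) := (Groth.Agent.S7180.result (X := V.left) V.hom hX v).1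
  obtain ⟨η, h₁, h₂⟩ := exists_generic v
  exact ⟨η, hmax V inferInstance η fun y hy => h₂ y (hy.trans h₁), h₁, h₂⟩

omit [IsPreimmersion g] [QuasiCompact g] in
theorem injective_of_affine (V : X.Etale) [IsAffine V.left] (a b : (EtCoh.const X M).obj.obj (op V))
    (e : up g _ V a = up g _ V b) (v : V.left) : AEq (EtCoh.const X M).obj a b v := by
  obtain ⟨m, hm⟩ := exists_aEq_csec a v
  obtain ⟨n, hn⟩ := exists_aEq_csec b v
  obtain ⟨η, ⟨z, hz⟩, hηv, -⟩ := exists_generic_mem g hX hmax V v
  have hma := hηv.mem_open (isOpen_aEq a (csec M V m)) hm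
  have hnb := hηv.mem_open (isOpen_aEq b (csec M V n)) hn
  have hab : AEq (EtCoh.const X M).obj a b (pr g V z) :=
    aEq_of_up g _ ⟨_, 𝟙 _, ⟨z, rfl⟩, congrArg _ e⟩
  rw [hz] at hab
  have := eq_of_aEq_csec (hma.symm.trans (hab.trans hnb))
  subst this
  exact hm.trans hn.symm

theorem surjective_of_affine (V : X.Etale) [IsAffine V.left]
    (s : ((EtCoh.pull g).obj (EtCoh.const X M)).obj.obj (op ((EtCoh.bc g).obj V))) (v : V.left) :
    ∃ (m : ULift.{u + 1} M) (O : V.left.Opens), v ∈ O ∧ ∀ z, pr g V z ∈ O →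
      AEq ((EtCoh.pull g).obj (EtCoh.const X M)).obj s (up g _ V (csec M V m)) z := by
  haveI : IsPreimmersion (pr g V) := MorphismProperty.pullback_fst _ _ ‹IsPreimmersion g›
  haveI : QuasiCompact (pr g V) := MorphismProperty.pullback_fst _ _ ‹QuasiCompact g›
  haveI : CompactSpace ↥((EtCoh.bc g).obj V).left := QuasiCompact.compactSpace_of_compactSpace (pr g V)
  haveI : QuasiSeparatedSpace ↥((EtCoh.bc g).obj V).left := quasiSeparatedSpace_of_quasiSeparated (pr g V)
  haveI : SpectralSpace ↥((EtCoh.bc g).obj V).left := {}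
  haveI : SpectralSpace ↥V.left := {}
  obtain ⟨η, hη, -, hgen⟩ := exists_generic_mem g hX hmax V v
  obtain ⟨m, O, hO, hv, hsub⟩ := exists_nhds_piece (pr g V) (pr g V).isSpectralMap
    (pr g V).isEmbedding.isInducing v η hη hgen
    (fun m : ULift.{u + 1} M => {z | AEq ((EtCoh.pull g).obj (EtCoh.const X M)).obj s (up g _ V (csec M V m)) z})
    (fun m => isOpen_aEq _ _) (fun m n z hm hn => eq_of_aEq_cup g (hm.symm.trans hn))
    (fun z => exists_aEq_cup g V s z)
  exact ⟨m, ⟨O, hO⟩, hv, fun z hz => hsub hz⟩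

/-- The constant sheaf is the direct image of its restriction. -/
theorem isIso_unit_const : IsIso ((EtCoh.pullPushAdj g).unit.app (EtCoh.const X M)) := by
  let F := EtCoh.const X M
  let η := (EtCoh.pullPushAdj g).unit.app F
  haveI : IsIso ((sheafCompose X.smallEtaleTopology (CategoryTheory.forget AddCommGrpCat.{u + 1})).map η) := by
    refine HenselConn.isIso_of_local _ (fun W a b e w => ?_) (fun W t w => ?_)
    · obtain ⟨A, hA, hwA, -⟩ := exists_isAffineOpen_mem_and_subset (X := W.left) (x := w) (U := ⊤) trivial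
      haveI : IsAffine (EtFound.restrictEtale W A).left := hA
      have e' : up g F _ (F.obj.map (EtFound.restrictEtaleHom W A).op a) =
          up g F _ (F.obj.map (EtFound.restrictEtaleHom W A).op b) := by
        rw [up_map, up_map]; exact congrArg _ e
      exact (injective_of_affine g hX hmax (EtFound.restrictEtale W A) _ _ e' ⟨w, hwA⟩).of_map
        (EtFound.restrictEtaleHom W A)
    · obtain ⟨A, hA, hwA, -⟩ := exists_isAffineOpen_mem_and_subset (X := W.left) (x := w) (U := ⊤) trivial
      haveI : IsAffine (EtFound.restrictEtale W A).left := hA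
      let k := EtFound.restrictEtaleHom W A
      let t' := ((EtCoh.pull g).obj F).obj.map ((EtCoh.bc g).map k).op t
      obtain ⟨m, O, hv, hO⟩ := surjective_of_affine g hX hmax (EtFound.restrictEtale W A) t' ⟨w, hwA⟩
      let l := EtFound.restrictEtaleHom (EtFound.restrictEtale W A) O
      refine ⟨_, l ≫ k, csec M _ m, ⟨⟨⟨w, hwA⟩, hv⟩, rfl⟩, ?_⟩
      show up g F _ (csec M _ m) = ((EtCoh.pull g).obj F).obj.map ((EtCoh.bc g).map (l ≫ k)).op t
      refine eq_of_aEq ((EtCoh.pull g).obj F) fun z => ?_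
      have hz : pr g _ (((EtCoh.bc g).map l).left z) ∈ O := by
        have e := congrArg (fun q : ((EtCoh.bc g).obj _).left ⟶ (EtFound.restrictEtale W A).left => q z)
          (EtCoh.isPullback_bc_map g l).w
        exact ((Scheme.Hom.comp_apply _ _ _).symm.trans (e.trans (Scheme.Hom.comp_apply _ _ _))) ▸ (pr g _ z).2
      have h := (hO _ hz).map ((EtCoh.bc g).map l)
      rw [← up_map, csec_map, mapP, ← Functor.map_comp] at h
      exact h.symm
  exact isIso_of_reflects_iso η (sheafCompose X.smallEtaleTopology (CategoryTheory.forget AddCommGrpCat.{u + 1}))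

omit hX hmax
omit [IsPreimmersion g] [QuasiCompact g]

/-- Quasi-compact dense open pieces contain the maximal points of etale affines. -/
theorem hmax_of_dense [IsOpenImmersion g] [QuasiCompact g] (hd : Dense (Set.range g)) (V : X.Etale)
    (hV : IsAffine V.left) (η : V.left) (hη : ∀ y, y ⤳ η → η ⤳ y) : η ∈ Set.range (pr g V) := by
  haveI : Etale V.hom := V.prop
  haveI : QuasiCompact (pr g V) := MorphismProperty.pullback_fst _ _ ‹QuasiCompact g›
  haveI : CompactSpace ↥((EtCoh.bc g).obj V).left := QuasiCompact.compactSpace_of_compactSpace (pr g V)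
  haveI : IsOpenImmersion (pr g V) := MorphismProperty.pullback_fst _ _ ‹IsOpenImmersion g›
  haveI : QuasiSeparatedSpace ↥((EtCoh.bc g).obj V).left := quasiSeparatedSpace_of_quasiSeparated (pr g V)
  haveI : SpectralSpace ↥((EtCoh.bc g).obj V).left := {}
  haveI : SpectralSpace ↥V.left := {}
  have hcl : η ∈ closure (pr g V '' Set.univ) := by
    have h : Set.range (pr g V) = V.hom ⁻¹' Set.range g := Scheme.Pullback.range_fst _ _
    rw [Set.image_univ, h, ← V.hom.isOpenMap.preimage_closure_eq_closure_preimage V.hom.continuous, hd.closure_eq]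
    trivial
  obtain ⟨w, -, hw⟩ := GabberH0.exists_specializes_map (pr g V) (pr g V).isSpectralMap Set.univ
    (GabberH0.isClosed_constructible_of_isClosed isClosed_univ) η hcl
  exact ⟨w, (hw.antisymm (hη _ hw)).eq⟩

/-- The generic point is below the maximal points of etale schemes. -/
theorem hmax_of_generic [IsIntegral X] (hg : genericPoint X ∈ Set.range g) (V : X.Etale) (η : V.left)
    (hη : ∀ y, y ⤳ η → η ⤳ y) : η ∈ Set.range (pr g V) := by
  haveI : Etale V.hom := V.prop
  rw [show Set.range (pr g V) = V.hom ⁻¹' Set.range g from Scheme.Pullback.range_fst _ _]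
  let f : V.left ⟶ X := V.hom
  haveI : Etale f := V.prop
  obtain ⟨y, hy, hy'⟩ := Flat.generalizingMap f (genericPoint_specializes (f η))
  have h : f η ⤳ genericPoint X := hy' ▸ (hη y hy).map f.continuous
  show f η ∈ Set.range g
  rw [(h.antisymm (genericPoint_specializes _)).eq]
  exact hg

end Groth.Agent.NormalPush13
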